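import Groth.Agent.TMul.AmpleBasis
import Groth.Agent.TMul.Ample
import Groth.Agent.TMul.AffineLocus
import Groth.Agent.TMul.Assoc
import Groth.Agent.KFlat.SchemeStalk
import Groth.Agent.ProjForm.Range
import Groth.Agent.WeakAssLib.Basic
import Groth.Agent.S1576
import Groth.Agent.K0Coh.Basic
import Groth.Prelude.Def_DCoh4
import Mathlib.GroupTheory.CosetCover
import Mathlib.RingTheory.Nakayama

/-!
A combination of generating sections which is regular for finitely many coherent modules, over a
local ring with infinite residue field.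
-/

set_option autoImplicit false
set_option linter.style.haveILetI false
set_option backward.isDefEq.respectTransparency false
set_option backward.isDefEq.respectTransparency.types false
set_option maxHeartbeats 1000000

universe u

open CategoryTheory CategoryTheory.Limits AlgebraicGeometry TopologicalSpace Opposite MonoidalCategory
open TMul
open Groth.Agent.QC (res resO)

noncomputable section

namespace Groth.Agent.RegSec

variable {A : Type u} [CommRing A] [IsLocalRing A] {V : Scheme.{u}} (f : V ⟶ Spec (CommRingCat.of A))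
  {L : V.Modules}

/-- The coefficient. -/
abbrev cf (a : A) : Γ(V, ⊤) := f.appTop ((Scheme.ΓSpecIso (CommRingCat.of A)).inv a)

/-- The combination of sections. -/
def comb {n : ℕ} (t : Fin n → Γ(L, ⊤)) (a : Fin n → A) : Γ(L, ⊤) := ∑ i, cf f (a i) • t i

theorem exists_gen_at (hL : PicF.IsInvertible L) (hA : Infinite (IsLocalRing.ResidueField A)) {n : ℕ}
    (t : Fin n → Γ(L, ⊤)) (S : Finset V) (hgen : ∀ x ∈ S, ∃ i, x ∈ CohB1.genLocus L (homOf (t i))) :
    ∃ a : Fin n → A, ∀ x ∈ S, x ∈ CohB1.genLocus L (homOf (comb f t a)) := by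
  classical
  have hloc : ∀ x : S, ∃ N : Submodule A (Fin n → A),
      (∀ a, a ∉ N → x.1 ∈ CohB1.genLocus L (homOf (comb f t a))) ∧ N ≠ ⊤ := fun x => by
    obtain ⟨U, e, hxU, he⟩ := exists_isGen hL x.1
    choose c hc using fun i => (he U le_rfl).2 (res L le_top (t i))
    simp only [Groth.Agent.QC.res_self] at hc
    let g : A →+* V.presheaf.stalk x.1 :=
      ((V.presheaf.germ ⊤ x.1 trivial).hom.comp f.appTop.hom).comp (Scheme.ΓSpecIso (CommRingCat.of A)).inv.hom
    have hiff : ∀ a : Fin n → A, x.1 ∈ CohB1.genLocus L (homOf (comb f t a)) ↔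
        IsUnit (∑ i, g (a i) * V.presheaf.germ U x.1 hxU (c i)) := fun a => by
      have hval : val (homOf (comb f t a)) U =
          (∑ i, resO V (le_top : U ≤ ⊤) (cf f (a i)) * c i) • e := by
        rw [val_homOf, comb, map_sum, Finset.sum_smul]
        exact Finset.sum_congr rfl fun i _ => by rw [QC.res_smul, mul_smul, hc i]
      rw [mem_genLocus_iff_isUnit _ he hval hxU, map_sum]
      refine iff_of_eq (congrArg IsUnit (Finset.sum_congr rfl fun i _ => ?_))
      rw [map_mul]
      exact congrArg (· * _) (V.presheaf.germ_res_apply (homOfLE (le_top : U ≤ ⊤)) x.1 hxU _)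
    let N : Submodule A (Fin n → A) :=
      { carrier := {a | ∑ i, g (a i) * V.presheaf.germ U x.1 hxU (c i) ∈ IsLocalRing.maximalIdeal _}
        add_mem' := fun {a b} ha hb => by
          simp only [Set.mem_setOf_eq, Pi.add_apply, map_add, add_mul, Finset.sum_add_distrib] at ha hb ⊢
          exact add_mem ha hb
        zero_mem' := by simp
        smul_mem' := fun r a ha => by
          simp only [Set.mem_setOf_eq, Pi.smul_apply, smul_eq_mul, map_mul, mul_assoc, ← Finset.mul_sum] at ha ⊢
          exact Ideal.mul_mem_left _ _ ha }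
    refine ⟨N, fun a ha => (hiff a).mpr (by_contra fun hu => ha hu), fun htop => ?_⟩
    obtain ⟨i, hi⟩ := hgen x.1 x.2
    have hci : IsUnit (V.presheaf.germ U x.1 hxU (c i)) := by
      refine (mem_genLocus_iff_isUnit _ he ?_ hxU).mp hi
      rw [val_homOf, hc i]
    have h1 : (Pi.single i (1 : A) : Fin n → A) ∈ N := htop ▸ Submodule.mem_top
    have h2 : ∑ j, g ((Pi.single i (1 : A) : Fin n → A) j) * V.presheaf.germ U x.1 hxU (c j) =
        V.presheaf.germ U x.1 hxU (c i) := by
      rw [Finset.sum_eq_single i]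
      · rw [Pi.single_eq_same, map_one, one_mul]
      · intro j _ hj
        rw [Pi.single_eq_of_ne hj, map_zero, zero_mul]
      · intro h
        exact absurd (Finset.mem_univ i) h
    exact (IsLocalRing.mem_maximalIdeal _).mp (h2 ▸ h1) hci
  choose N hN hNtop using hloc
  let k := IsLocalRing.ResidueField A
  let π : (Fin n → A) →ₗ[A] (Fin n → k) := LinearMap.pi fun i =>
    (Algebra.linearMap A k).comp (LinearMap.proj i)
  have hπ : Function.Surjective π := fun v => by
    choose a ha using fun i => IsLocalRing.residue_surjective (v i)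
    exact ⟨a, funext fun i => ha i⟩
  let p : S → Submodule k (Fin n → k) := fun x => Submodule.span k ((N x).map π : Set (Fin n → k))
  have hp : ∀ x, p x ≠ ⊤ := fun x htop => by
    refine hNtop x (top_le_iff.mp (Submodule.le_of_le_smul_of_le_jacobson_bot (I := IsLocalRing.maximalIdeal A)
      Module.Finite.fg_top (IsLocalRing.maximalIdeal_le_jacobson _) fun a _ => ?_))
    have hb : ∀ v ∈ p x, v ∈ ((N x).map π : Set (Fin n → k)) := fun v hv => by
      induction hv using Submodule.span_induction with
      | mem y hy => exact hy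
      | zero => exact zero_mem _
      | add y z _ _ hy hz => exact add_mem hy hz
      | smul r y _ hy =>
        obtain ⟨r, rfl⟩ := IsLocalRing.residue_surjective r
        have := Submodule.smul_mem ((N x).map π) r hy
        rwa [← algebraMap_smul k r y] at this
    obtain ⟨b, hbN, hba⟩ := hb (π a) (htop ▸ Submodule.mem_top)
    rw [← add_sub_cancel b a]
    refine Submodule.add_mem_sup hbN ?_
    rw [← Finset.univ_sum_single (a - b)]
    refine Submodule.sum_mem _ fun i _ => ?_
    have hm : a i - b i ∈ IsLocalRing.maximalIdeal A := by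
      rw [← IsLocalRing.ker_residue, RingHom.mem_ker, map_sub, sub_eq_zero]
      exact congrFun hba.symm i
    rw [show Pi.single i ((a - b) i) = (a i - b i) • (Pi.single i 1 : Fin n → A) by
      rw [← Pi.single_smul, smul_eq_mul, mul_one]; rfl]
    exact Submodule.smul_mem_smul hm Submodule.mem_top
  haveI : Infinite k := hA
  have hcov : ⋃ x, (p x : Set (Fin n → k)) ≠ Set.univ := fun h => by
    obtain ⟨x, hx⟩ := Subspace.exists_eq_top_of_iUnion_eq_univ h
    exact hp x hx
  obtain ⟨v, hv⟩ := (Set.ne_univ_iff_exists_notMem _).mp hcov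
  obtain ⟨a, rfl⟩ := hπ v
  exact ⟨a, fun x hx => hN ⟨x, hx⟩ a fun ha =>
    hv (Set.mem_iUnion.mpr ⟨⟨x, hx⟩, Submodule.subset_span ⟨a, ha, rfl⟩⟩)⟩

theorem mono_tensor_map [IsLocallyNoetherian V] {F : V.Modules} (hF : Coh.IsCoh F)
    (τ : Coh.structureModule V ⟶ L)
    (h : ∀ y : V, Curv2.IsWeakAssPoint (((DCoh.tensorBi (X := V)).obj F).obj (Coh.structureModule V)) y →
      y ∈ CohB1.genLocus L τ) :
    Mono (((DCoh.tensorBi (X := V)).obj F).map τ) := by
  let G := ((DCoh.tensorBi (X := V)).obj F).obj (Coh.structureModule V)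
  have hG : Coh.IsCoh G := K0Coh.isCoh_of_iso (SecTwist.unitorR F).symm hF
  refine (QC.mono_iff_app_injective _).mpr fun W => ?_
  rw [injective_iff_map_eq_zero]
  intro s hs
  refine WeakAssLib.eq_zero_of_forall (F := G) hG.1 (V := W) s fun y hy hass => ?_
  let φ := ((DCoh.tensorBi (X := V)).obj F).map τ
  let U := CohB1.genLocus L τ
  have h1 : IsIso ((Scheme.Modules.restrictFunctor U.ι).map τ) :=
    (isIso_restrict_iff τ U).mpr (isGen_genLocus τ)
  have h2 := (ProjForm.isIso_restrictJ_iff U.ι τ).1 h1 y (by rw [Scheme.Opens.opensRange_ι]; exact h y hass)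
  have e := KFlat.stTensorIso_natural (𝟙 F) τ y
  have h3 : IsIso ((DerSch.stalkFunctor V y).map φ) := by
    have e' : (DerSch.stalkFunctor V y).map φ = (KFlat.stTensorIso F (Coh.structureModule V) y).inv ≫
        (((DerSch.stalkFunctor V y).map (𝟙 F) ⊗ₘ (DerSch.stalkFunctor V y).map τ) ≫
          (KFlat.stTensorIso F L y).hom) := by
      rw [e, Iso.inv_hom_id_assoc]
      refine congrArg _ ?_
      refine Eq.trans ?_ (congrArg (· ≫ φ) (show 𝟙 G = _ from
        (congrArg (fun ψ : NatTrans _ _ => ψ.app _) ((DCoh.tensorBi (X := V)).map_id F)).symm))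
      exact (Category.id_comp φ).symm
    rw [e']
    infer_instance
  have hinj := ((ConcreteCategory.isIso_iff_bijective ((DerSch.stalkFunctor V y).map φ)).mp h3).1
  refine hinj ?_
  refine (TopCat.Presheaf.stalkFunctor_map_germ_apply W y hy φ.mapPresheaf s).trans ?_
  refine Eq.trans ?_ (map_zero _).symm
  exact (congrArg (fun z => (((DCoh.tensorBi (X := V)).obj F).obj L).presheaf.germ W y hy z) hs).trans (map_zero _)

theorem exists_regular [IsNoetherian V] (hA : Infinite (IsLocalRing.ResidueField A))
    (hL : PicF.IsInvertible L) {n : ℕ} (t : Fin n → Γ(L, ⊤))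
    (hgen : ∀ x : V, ∃ i, x ∈ CohB1.genLocus L (homOf (t i))) {m : ℕ} (F : Fin m → V.Modules)
    (hF : ∀ j, Coh.IsCoh (F j)) :
    ∃ a : Fin n → A, ∀ j, Mono (((DCoh.tensorBi (X := V)).obj (F j)).map (homOf (comb f t a))) := by
  classical
  let G := fun j => ((DCoh.tensorBi (X := V)).obj (F j)).obj (Coh.structureModule V)
  have hfin : (⋃ j, {y : V | y ∈ (⊤ : V.Opens) ∧ Curv2.IsAssPoint (G j) y}).Finite :=
    Set.finite_iUnion fun j => Groth.Agent.S1576.result V (G j)
      (K0Coh.isCoh_of_iso (SecTwist.unitorR (F j)).symm (hF j)) ⊤ (by simpa using isCompact_univ)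
  obtain ⟨a, ha⟩ := exists_gen_at f hL hA t hfin.toFinset fun x _ => hgen x
  exact ⟨a, fun j => mono_tensor_map (hF j) _ fun y hy => ha y (hfin.mem_toFinset.mpr
    (Set.mem_iUnion.mpr ⟨j, trivial, (WeakAssLib.isAssPoint_iff (G j) y).mpr hy⟩))⟩

end Groth.Agent.RegSec
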